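import Groth.Agent.Lib.PBundle2.Chart
import Groth.Agent.Lib.BlowKoszul2.Conormal
import Groth.Agent.Lib.VeryAmple11.ProjCrit
import Groth.Agent.S5732
import Groth.Agent.S5733
import Groth.Agent.S4270
import Groth.Agent.S4271
import Groth.Agent.Lib.CohFound.ProjQuot
import Mathlib.AlgebraicGeometry.Morphisms.Smooth

/-!
Projective morphisms over regular separated Noetherian schemes embed into smooth projective bundles.
-/

set_option autoImplicit false
set_option linter.style.haveILetI false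
set_option backward.isDefEq.respectTransparency false
set_option backward.isDefEq.respectTransparency.types false
set_option synthInstance.maxHeartbeats 400000

universe u

open CategoryTheory Limits AlgebraicGeometry TopologicalSpace Opposite

noncomputable section

namespace Groth.Agent.SmProj2

open Groth.Agent.M1 Groth.Agent.PBundle2

variable {S X P : Scheme.{u}}

/-- A projective bundle of a finite locally free module is smooth. -/
theorem smooth_projBundle {π : P ⟶ S} {E : S.Modules} {O1 : P.Modules} {q : (Scheme.Modules.pullback π).obj E ⟶ O1}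
    (hP : KRR.IsProjBundle π E O1 q) (hE : FlatMod.IsFinLocFree E) : Smooth π := by
  have hEq := M2.isQCoh_of_isFinLocFree hE
  rw [HasRingHomProperty.iff_exists_appLE (P := @Smooth) (Q := RingHom.Smooth)
    (RingHom.Smooth.stableUnderComposition.stableUnderCompositionWithLocalizationAway
      RingHom.Smooth.holdsForLocalizationAway).left]
  intro x
  obtain ⟨n, D, e, hxD, he⟩ := PushUnit3.exists_isBas_nhd' hE (π x)
  obtain ⟨U, hU, hxU, hUD⟩ := exists_isAffineOpen_mem_and_subset hxD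
  obtain ⟨b⟩ := BlowKoszul2.nonempty_basis hUD he
  obtain ⟨k, hk⟩ := exists_mem_gl hP hEq hU b (y := x) hxU
  obtain ⟨m, rfl⟩ : ∃ m, n = m + 1 := ⟨n - 1, by have := k.pos; omega⟩
  obtain ⟨hW, hρ⟩ := chart hP hEq hU b k
  refine ⟨⟨U, hU⟩, ⟨_, hW⟩, hk, gl_le_preimage b k, ?_⟩
  have h : (π.appLE U _ (gl_le_preimage (q := q) b k)).hom = (chartHom (q := q) b k).comp MvPolynomial.C := by
    ext a
    exact (MvPolynomial.eval₂Hom_C _ _ a).symm
  rw [h]
  haveI : Algebra.Smooth Γ(S, U) (MvPolynomial (Fin m) Γ(S, U)) := ⟨inferInstance, inferInstance⟩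
  exact RingHom.Smooth.comp (RingHom.smooth_algebraMap.2 inferInstance :
    (algebraMap Γ(S, U) (MvPolynomial (Fin m) Γ(S, U))).Smooth) (RingHom.Smooth.of_bijective hρ)

/-- The canonical quotient makes the `Proj` of a symmetric algebra a projective bundle. -/
theorem exists_isProjBundle {E : S.Modules} (hE : Coh.IsQCoh E) {𝒮 : RelProj.QCGrAlg S} {j : E ⟶ 𝒮.toModule}
    (hj : RelProj.IsGrSymAlg E 𝒮 j) {p : P ⟶ S}
    {chart : ∀ (U : S.Opens) (hU : IsAffineOpen U), ((p ⁻¹ᵁ U : P.Opens) : Scheme.{u}) ≅ Proj (𝒮.deg U hU)}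
    (hP : RelProj.IsRelProj 𝒮 p chart) :
    ∃ (O1 : P.Modules) (q : (Scheme.Modules.pullback p).obj E ⟶ O1), KRR.IsProjBundle p E O1 q := by
  obtain ⟨O1, lam, hO⟩ := RelProj11.exists_isRelTwist (n := (1 : ℤ)) hP
  obtain ⟨φ, hφ⟩ := VA11.exists_can hE hj hP hO
  have hval : ∀ (U : S.Opens) (hU : IsAffineOpen U) (e : Γ(E, U))
      (y : ↥(RelProj.emb p chart U hU ⁻¹ᵁ (p ⁻¹ᵁ U))),
      GrTwist.val (V := RelProj.emb p chart U hU ⁻¹ᵁ (p ⁻¹ᵁ U))
          ((lam U hU).app (p ⁻¹ᵁ U) ((φ.app U) e)) y =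
        algebraMap (𝒮.presheaf.obj (op U)) (GrTwist.Loc (𝒮.deg U hU) y.1)
          ((j.app U) e : 𝒮.presheaf.obj (op U)) := fun U hU e y => by
    rw [hφ U hU e]
    exact (VA11.cval_phi hO U hU _ (hj.2 U hU e) y.1 y.2).trans (Localization.mk_one_eq_algebraMap _)
  refine ⟨O1, ((Scheme.Modules.pullbackPushforwardAdjunction p).homEquiv E O1).symm φ, ?_, ?_, ?_⟩
  · exact (M2.isInvertible_iff_isFinLocFreeOfRank_one _).1
      (RelProj11.isInvertible_relTwist (VA11.isGenDegOne_of_isGrSymAlg hE hj) hO)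
  · exact S5732.result E hE 𝒮 j hj p chart hP O1 lam hO φ hval
  · intro T g L hL s hs
    exact S5733.result E hE 𝒮 j hj p chart hP O1 lam hO φ hval g L ((M2.isInvertible_iff_isFinLocFreeOfRank_one _).2 hL) s hs

/-- The criterion passes to modules mapping onto. -/
theorem vamp_comp_epi {f : X ⟶ S} {L : X.Modules} {E F : S.Modules} (hE : Coh.IsQCoh E) (hF : Coh.IsQCoh F)
    (g : F ⟶ E) [Epi g] {φ : E ⟶ (Scheme.Modules.pushforward f).obj L} (h : VA11.VAmp φ) : VA11.VAmp (g ≫ φ) := by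
  intro x
  obtain ⟨U, hU, hva⟩ := h x
  have hs := M1.app_surjective_affine_of_isQCoh hF hE g hU
  refine ⟨U, hU, hva.mono fun m hm => ?_⟩
  obtain ⟨m', rfl⟩ := hs m
  refine ⟨m', le_rfl, hm, fun r => ?_, fun k => ?_⟩
  · rw [ores_ores]
    exact VA11.base_mem_ratSub r
  · obtain ⟨k', rfl⟩ := hs k
    erw [ores_id]
    exact VA11.cf_mem_ratSub (σ := VA11.secs (g ≫ φ) U) (e := m') k'

/-- A projective morphism embeds into a smooth projective morphism. -/
theorem exists_smooth_projective_embedding [IsNoetherian S] [S.IsSeparated]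
    (hS : ∀ s : S, IsRegularLocalRing (S.presheaf.stalk s)) {f : X ⟶ S} (hf : RelProj.IsProjective f) :
    ∃ (P : Scheme.{u}) (i : X ⟶ P) (p : P ⟶ S), IsClosedImmersion i ∧ Smooth p ∧ RelProj.IsProjective p ∧
      i ≫ p = f := by
  haveI := QuotProj11.isProper_of_isProjective hf
  obtain ⟨L, E, φ, -, hE, hFT, hva⟩ := VA11.exists_vamp_of_isProjective hf
  have hres : PerfAux.HasResolutionProperty S := S4270.result S (S4271.result S hS fun U V hU hV => hU.inf hV)
  obtain ⟨F, g, hF, hg⟩ := hres E hE hFT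
  haveI := hg
  have hFq := M2.isQCoh_of_isFinLocFree hF
  have hFT' : CohB1.IsFT F := (CohFound.isCoh_of_isFinLocFree hF).2
  obtain ⟨P, p, chart, hP⟩ := RelProj11.exists_isRelProj (VA11.symGr hFq)
  obtain ⟨i, hi, hip⟩ := VA11.exists_closedImmersion_of_vamp hFq hFT'
    (vamp_comp_epi hE hFq g (VA11.vamp_of_forall hva)) (VA11.isGrSymAlg_symGr hFq) hP
  obtain ⟨O1, q, hb⟩ := exists_isProjBundle hFq (VA11.isGrSymAlg_symGr hFq) hP
  exact ⟨P, i, p, hi, smooth_projBundle hb hF,
    VA11.isProjective_of_isRelProj hFq hFT' (VA11.isGrSymAlg_symGr hFq) hP, hip⟩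

/-- A quasi-projective morphism embeds into a smooth quasi-projective morphism. -/
theorem exists_smooth_qproj_embedding [IsNoetherian S] [S.IsSeparated]
    (hS : ∀ s : S, IsRegularLocalRing (S.presheaf.stalk s)) {f : X ⟶ S}
    (hf : ∃ (Z : Scheme.{u}) (v : X ⟶ Z) (q : Z ⟶ S), IsOpenImmersion v ∧ RelProj.IsProjective q ∧ v ≫ q = f) :
    ∃ (W : Scheme.{u}) (i : X ⟶ W) (p : W ⟶ S), IsClosedImmersion i ∧ Smooth p ∧
      (∃ (P : Scheme.{u}) (v : W ⟶ P) (q : P ⟶ S), IsOpenImmersion v ∧ RelProj.IsProjective q ∧ v ≫ q = p) ∧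
      i ≫ p = f := by
  obtain ⟨Z, v, q, hv, hq, rfl⟩ := hf
  haveI := hv
  obtain ⟨P, i, p, hi, hp, hpp, rfl⟩ := exists_smooth_projective_embedding hS hq
  haveI := hi
  haveI := hp
  let W : P.Opens := ⟨(i '' (Set.range v)ᶜ)ᶜ,
    (i.isClosedEmbedding.isClosedMap _ v.isOpenEmbedding.isOpen_range.isClosed_compl).isOpen_compl⟩
  have hvW : ∀ x, (v ≫ i) x ∈ W := fun x ⟨z, hz, he⟩ => hz (i.isClosedEmbedding.injective he ▸ Set.mem_range_self x)
  let a : X ⟶ W.toScheme := IsOpenImmersion.lift W.ι (v ≫ i) (by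
    rw [Scheme.Opens.range_ι]; rintro _ ⟨x, rfl⟩; exact hvW x)
  have ha : a ≫ W.ι = v ≫ i := IsOpenImmersion.lift_fac _ _ _
  haveI : IsPreimmersion (a ≫ W.ι) := ha ▸ inferInstance
  haveI : IsPreimmersion a := IsPreimmersion.of_comp a W.ι
  have hr : IsClosed (Set.range a) := by
    have : Set.range a = W.ι ⁻¹' (Set.range i) := by
      ext w
      refine ⟨?_, ?_⟩
      · rintro ⟨x, rfl⟩
        exact ⟨v x, by rw [← Scheme.Hom.comp_apply, ← Scheme.Hom.comp_apply, ha]⟩
      · rintro ⟨z, hz⟩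
        obtain ⟨x, rfl⟩ : z ∈ Set.range v := by
          by_contra hne
          exact w.2 ⟨z, hne, hz⟩
        exact ⟨x, W.ι.isOpenEmbedding.injective (by
          rw [← Scheme.Hom.comp_apply, ha, Scheme.Hom.comp_apply, hz])⟩
    rw [this]
    exact i.isClosedEmbedding.isClosed_range.preimage W.ι.continuous
  refine ⟨W.toScheme, a, W.ι ≫ p, IsClosedImmersion.of_isPreimmersion a hr, inferInstance,
    ⟨P, W.ι, p, inferInstance, hpp, rfl⟩, ?_⟩
  rw [← Category.assoc, ha, Category.assoc]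

end Groth.Agent.SmProj2
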